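import Mathlib
import Cfsg.Agent.H717.FieldOf
import Cfsg.Agent.Lib.MinNormal
import Cfsg.Agent.FastGrp
import Cfsg.Agent.Prune
set_option linter.all false

section
prune_inst 0x7ffdfefffff8fddfffff7e7fa7d6cffdfdffbffffffffdfbbfecaffffbff7f06eff56ba76febcafe5fc6603490f87bc3fdffd23feb63fe7fffffdff45ffbee1ffffebdad51dfb8be1ffc6ff6fbf0778e7f3fffffffffffffffffffffffffffbeffbfffffffff

-- part: H192/Af/Defs
section
set_option linter.all false
open scoped Cfsg.Agent.FastGrp

/-!
# S5731, the affine core: interface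

`V` a finite abelian group of prime exponent `p`, `H` a finite group acting faithfully by automorphisms,
`c(h) = |C_V(h)|`.

* `fixc h` : `c(h)`;
* `Tgt V H` : `∑ h, (1 - 1 / c(h)) ≥ (√n + 1) / (2 n) |H|`, `n = |V|` (the number of derangements of `V ⋊ H` is
  `n ∑ h, (1 - 1 / c(h))`);
* `rnk H v` : the number of orbits of `H_v` on the orbit of `v`;
* `KA V M` (H717) : the ring generated by `M` in `End V`; `Homog V M` : `V` is semisimple and isotypic for `M`;
* `DimGe V M b` : the simple `M`-submodules `W` have dimension `≥ b` over `End_M W`;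
* `BNCase LP`, `SmallCase LP` : the two inputs for the simple groups, `LP p T` = "`T` is of Lie type in
  characteristic `p`".
-/

set_option autoImplicit false

namespace Cfsg.Agent.H192.Af

open Cfsg.Agent.H717.FieldOf

universe u v

section defs

variable (V : Type u) [AddCommGroup V] {H : Type v} [Group H] [DistribMulAction H V]

/-- the number of fixed vectors of `h` -/
noncomputable def fixc (h : H) : ℕ := Nat.card {w : V // h • w = w}

/-- the number of orbits of the stabiliser of `w` on the orbit of `w` -/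
noncomputable def rnk (H : Type v) [Group H] [DistribMulAction H V] (w : V) : ℕ :=
  Nat.card (MulAction.orbitRel.Quotient (MulAction.stabilizer H w) (MulAction.orbit H w))

/-- **the target** for the affine group `V ⋊ H` -/
def Tgt (H : Type v) [Group H] [DistribMulAction H V] : Prop :=
  (Real.sqrt (Nat.card V) + 1) / (2 * Nat.card V) * (Nat.card H : ℝ) ≤ ∑ᶠ h : H, (1 - 1 / (fixc V h : ℝ))

/-- `V` is a semisimple and homogeneous module of the subgroup `M` -/
def Homog (M : Subgroup H) : Prop := IsSemisimpleModule (KA V M) V ∧ IsIsotypic (KA V M) V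

/-- the simple submodules have dimension at least `b` over their endomorphism rings -/
def DimGe (M : Subgroup H) (b : ℕ) : Prop :=
  ∀ W : Submodule (KA V M) V, IsSimpleModule (KA V M) W → b ≤ Module.finrank (Module.End (KA V M) W) W

/-- `y` has a non-zero fixed vector in every non-zero `M`-invariant subgroup of `V` -/
def FixAll (M : Subgroup H) (y : H) : Prop :=
  ∀ U : AddSubgroup V, U ≠ ⊥ → (∀ h ∈ M, ∀ w ∈ U, h • w ∈ U) → ∃ w ∈ U, w ≠ 0 ∧ y • w = w

end defs

section grp

variable {H : Type v} [Group H]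

/-- a non-abelian normal subgroup all of whose proper `H`-invariant subgroups are central in it -/
structure MinNA (M : Subgroup H) : Prop where
  normal : M.Normal
  nonab : ¬ IsMulCommutative M
  min : ∀ K : Subgroup H, K.Normal → K < M → ∀ k ∈ K, ∀ m ∈ M, k * m = m * k

/-- the elements of `H` centralising `y` modulo the centraliser of `M` (for `y ∈ M`: modulo `Z(M)`) -/
def sty (M : Subgroup H) [hM : M.Normal] (y : H) : Subgroup H where
  carrier := {h | h * y * h⁻¹ * y⁻¹ ∈ Subgroup.centralizer (M : Set H)}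
  one_mem' := by
    show (1 : H) * y * (1 : H)⁻¹ * y⁻¹ ∈ Subgroup.centralizer (M : Set H)
    rw [one_mul, inv_one, mul_one, mul_inv_cancel]
    exact one_mem _
  mul_mem' := by
    intro a b ha hb
    have ha' : a * y * a⁻¹ * y⁻¹ ∈ Subgroup.centralizer (M : Set H) := ha
    have hb' : b * y * b⁻¹ * y⁻¹ ∈ Subgroup.centralizer (M : Set H) := hb
    have h1 : a * (b * y * b⁻¹ * y⁻¹) * a⁻¹ ∈ Subgroup.centralizer (M : Set H) :=
      (inferInstance : (Subgroup.centralizer (M : Set H)).Normal).conj_mem _ hb' a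
    have h2 := mul_mem h1 ha'
    have h3 : a * (b * y * b⁻¹ * y⁻¹) * a⁻¹ * (a * y * a⁻¹ * y⁻¹) = a * b * y * (a * b)⁻¹ * y⁻¹ := by group
    rw [h3] at h2
    exact h2
  inv_mem' := by
    intro a ha
    have ha' : a * y * a⁻¹ * y⁻¹ ∈ Subgroup.centralizer (M : Set H) := ha
    have h1 : a⁻¹ * (a * y * a⁻¹ * y⁻¹)⁻¹ * a⁻¹⁻¹ ∈ Subgroup.centralizer (M : Set H) :=
      (inferInstance : (Subgroup.centralizer (M : Set H)).Normal).conj_mem _ (inv_mem ha') a⁻¹
    have h3 : a⁻¹ * (a * y * a⁻¹ * y⁻¹)⁻¹ * a⁻¹⁻¹ = a⁻¹ * y * a⁻¹⁻¹ * y⁻¹ := by group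
    rw [h3] at h1
    exact h1

/-- `κ(M, y) = |S_y : C_H(M)|`, the number of automorphisms of `M` induced by the elements of `H` fixing `y`
modulo `Z(M)` -/
noncomputable def kap (M : Subgroup H) [M.Normal] (y : H) : ℕ := (Subgroup.centralizer (M : Set H)).relIndex (sty M y)

end grp

/-- **Lie type in characteristic `p`**: the target holds, or the elements with more than `√n` fixed vectors centralise
`M` -/
def BNCase (LP : ∀ (_ : ℕ) (T : Type v) [Group T], Prop) : Prop :=
  ∃ N : ℕ, ∀ (p : ℕ) (V : Type u) [AddCommGroup V] [Finite V] (H : Type v) [Group H] [Finite H]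
    [DistribMulAction H V] [FaithfulSMul H V] (M : Subgroup H) [M.Normal] (T : Type v) [Group T] [IsSimpleGroup T]
    (s : ℕ), p.Prime → (∀ w : V, p • w = 0) → (∀ K : Subgroup H, K.Normal → Homog V K) →
    commutator M = ⊤ → 0 < s → Nonempty (M ⧸ Subgroup.center M ≃* (Fin s → T)) → ¬ IsMulCommutative T →
    LP p T → N ≤ Nat.card V → Tgt V H ∨ ∀ h : H, Nat.card V < fixc V h ^ 2 → ∀ x ∈ M, h * x = x * h

/-- **all other simple groups**: for every `m` and every large simple group `T` not of Lie type in characteristic `p`,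
every perfect central extension `L` of `T` contains `y`, with a non-zero fixed vector in every module of exponent `p`,
such that (number of automorphisms of `L / Z` fixing `y Z`) `^ m ≤ |X|` for all non-trivial modules `X` of exponent
`p`. -/
def SmallCase (LP : ∀ (_ : ℕ) (T : Type v) [Group T], Prop) : Prop :=
  ∀ m : ℕ, ∃ K : ℕ, ∀ (p : ℕ) (T : Type v) [Group T] [Finite T] [IsSimpleGroup T], p.Prime →
    ¬ IsMulCommutative T → K ≤ Nat.card T → ¬ LP p T →
    ∀ (L : Type v) [Group L] [Finite L], commutator L = ⊤ → Nonempty (L ⧸ Subgroup.center L ≃* T) →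
    ∃ y : L, (∀ (X : Type u) [AddCommGroup X] [Finite X] [DistribMulAction L X], Nontrivial X →
        (∀ x : X, p • x = 0) → ∃ x : X, x ≠ 0 ∧ y • x = x) ∧
      (∀ (X : Type u) [AddCommGroup X] [Finite X] [DistribMulAction L X], (∀ x : X, p • x = 0) →
        (∃ (l : L) (x : X), l • x ≠ x) →
        Nat.card {α : MulAut (L ⧸ Subgroup.center L) // α (y : L ⧸ Subgroup.center L) = y} ^ m ≤ Nat.card X)

end Cfsg.Agent.H192.Af
end

-- part: H813/Af/MinType
section
set_option linter.all false
open scoped Cfsg.Agent.FastGrp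

/-!
# S5731, AF2: minimal non-abelian normal subgroups
-/

set_option autoImplicit false

namespace Cfsg.Agent.H813.Af

open Subgroup Cfsg.Agent.H192.Af

universe v

variable {H : Type v} [Group H] [Finite H]

theorem minNA_type {M : Subgroup H} (hM : MinNA M) :
    (∃ r : ℕ, r.Prime ∧ ∀ m : M, m ^ r ∈ Subgroup.center M ∧ ∀ m' : M, m * m' * m⁻¹ * m'⁻¹ ∈ Subgroup.center M) ∨
    (commutator M = ⊤ ∧ ∃ (T : Type v) (_ : Group T) (_ : Finite T) (s : ℕ), IsSimpleGroup T ∧
      ¬ IsMulCommutative T ∧ 0 < s ∧ Nonempty (M ⧸ Subgroup.center M ≃* (Fin s → T))) := by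
  classical
  have hMn := hM.normal
  obtain ⟨Z, hZ⟩ : ∃ Z : Subgroup H, Z = (center M).map M.subtype := ⟨_, rfl⟩
  have hZn : Z.Normal := by rw [hZ]; infer_instance
  have hmemZ : ∀ x : M, (x : H) ∈ Z ↔ x ∈ center M := by
    intro x
    rw [hZ, mem_map]
    constructor
    · rintro ⟨y, hy, hyx⟩
      have : y = x := Subtype.ext hyx
      rwa [← this]
    · intro h
      exact ⟨x, h, rfl⟩
  have hZM : Z ≤ M := by
    rw [hZ]
    exact map_subtype_le _
  obtain ⟨φ, hφ⟩ : ∃ φ : M →* H ⧸ Z, φ = (QuotientGroup.mk' Z).comp M.subtype := ⟨_, rfl⟩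
  have hker : φ.ker = center M := by
    ext x
    rw [MonoidHom.mem_ker, hφ]
    show ((x : H) : H ⧸ Z) = 1 ↔ _
    rw [QuotientGroup.eq_one_iff]
    exact hmemZ x
  have hrange : φ.range = M.map (QuotientGroup.mk' Z) := by
    rw [hφ, MonoidHom.range_comp, range_subtype]
  have hNn : (M.map (QuotientGroup.mk' Z)).Normal := hMn.map _ (QuotientGroup.mk'_surjective Z)
  have hN : M.map (QuotientGroup.mk' Z) ≠ ⊥ := by
    intro h
    apply hM.nonab
    refine ⟨⟨fun a b => ?_⟩⟩
    have h1 : a ∈ center M := by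
      rw [← hker, MonoidHom.mem_ker]
      have : φ a ∈ φ.range := ⟨a, rfl⟩
      rw [hrange, h, mem_bot] at this
      exact this
    exact ((mem_center_iff.1 h1) b).symm
  have hmin : ∀ K' : Subgroup (H ⧸ Z), K'.Normal → K' ≤ M.map (QuotientGroup.mk' Z) →
      K' = ⊥ ∨ K' = M.map (QuotientGroup.mk' Z) := by
    intro K' hK'n hK'
    have hKM : K'.comap (QuotientGroup.mk' Z) ≤ M := by
      intro x hx
      obtain ⟨m, hm, hmx⟩ := hK' (mem_comap.1 hx)
      have h1 : m⁻¹ * x ∈ Z := QuotientGroup.eq.1 hmx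
      have := M.mul_mem hm (hZM h1)
      rwa [mul_inv_cancel_left] at this
    have hback : K' = (K'.comap (QuotientGroup.mk' Z)).map (QuotientGroup.mk' Z) :=
      (map_comap_eq_self_of_surjective (QuotientGroup.mk'_surjective Z) K').symm
    rcases lt_or_eq_of_le hKM with h | h
    · left
      rw [eq_bot_iff, hback]
      rintro _ ⟨x, hx, rfl⟩
      rw [mem_bot]
      show ((x : H) : H ⧸ Z) = 1
      rw [QuotientGroup.eq_one_iff]
      rw [show x = ((⟨x, hKM hx⟩ : M) : H) from rfl, hmemZ, mem_center_iff]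
      intro g
      exact Subtype.ext (hM.min _ (hK'n.comap _) h x hx g g.2).symm
    · right
      rw [hback, h]
  obtain ⟨T, s, -, hTs, hs, ⟨e⟩⟩ := Cfsg.Agent.Lib.MinNormal.exists_mulEquiv_pi _ hN hmin
  obtain ⟨E⟩ : Nonempty (M ⧸ center M ≃* (Fin s → T)) :=
    ⟨((QuotientGroup.quotientMulEquivOfEq hker).symm.trans (QuotientGroup.quotientKerEquivRange φ)).trans
      ((MulEquiv.subgroupCongr hrange).trans e)⟩
  by_cases hT : IsMulCommutative T
  · left
    have hprime : (Nat.card T).Prime := by
      let _ : CommGroup T := { (inferInstance : Group T) with mul_comm := hT.is_comm.comm }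
      exact IsSimpleGroup.prime_card
    refine ⟨Nat.card T, hprime, fun m => ⟨?_, fun m' => ?_⟩⟩
    · rw [← QuotientGroup.eq_one_iff]
      apply E.injective
      rw [map_one, QuotientGroup.mk_pow, map_pow]
      funext i
      exact pow_card_eq_one'
    · rw [← QuotientGroup.eq_one_iff]
      apply E.injective
      rw [map_one, QuotientGroup.mk_mul, QuotientGroup.mk_mul, QuotientGroup.mk_mul, QuotientGroup.mk_inv,
        QuotientGroup.mk_inv, map_mul, map_mul, map_mul, map_inv, map_inv]
      funext i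
      show E m i * E m' i * (E m i)⁻¹ * (E m' i)⁻¹ = 1
      rw [hT.is_comm.comm (E m i) (E m' i)]
      group
  · right
    refine ⟨?_, T, inferInstance, inferInstance, s, hTs, hT, hs, ⟨E⟩⟩
    obtain ⟨D, hD⟩ : ∃ D : Subgroup H, D = (commutator M).map M.subtype := ⟨_, rfl⟩
    have hDn : D.Normal := by rw [hD]; infer_instance
    have hDM : D ≤ M := by rw [hD]; exact map_subtype_le _
    rcases lt_or_eq_of_le hDM with h | h
    · exfalso
      apply hT
      have h1 : ∀ a b : M, a * b * a⁻¹ * b⁻¹ ∈ center M := by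
        intro a b
        rw [mem_center_iff]
        intro g
        have h2 : ((a * b * a⁻¹ * b⁻¹ : M) : H) ∈ D := by
          rw [hD]
          refine ⟨a * b * a⁻¹ * b⁻¹, ?_, rfl⟩
          rw [_root_.commutator_def]
          exact commutator_mem_commutator (mem_top a) (mem_top b)
        exact Subtype.ext (hM.min D hDn h _ h2 g g.2).symm
      refine ⟨⟨fun a b => ?_⟩⟩
      obtain ⟨x, hx⟩ := E.surjective (fun _ => a)
      obtain ⟨y, hy⟩ := E.surjective (fun _ => b)
      obtain ⟨x, rfl⟩ := QuotientGroup.mk_surjective x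
      obtain ⟨y, rfl⟩ := QuotientGroup.mk_surjective y
      have h3 := (QuotientGroup.eq_one_iff (N := center M) _).2 (h1 x y)
      rw [QuotientGroup.mk_mul, QuotientGroup.mk_mul, QuotientGroup.mk_mul, QuotientGroup.mk_inv,
        QuotientGroup.mk_inv] at h3
      have h4 := congrArg E h3
      rw [map_mul, map_mul, map_mul, map_inv, map_inv, map_one, hx, hy] at h4
      have h5 : a * b * a⁻¹ * b⁻¹ = 1 := congrFun h4 ⟨0, hs⟩
      calc a * b = (a * b * a⁻¹ * b⁻¹) * (b * a) := by group
        _ = b * a := by rw [h5, one_mul]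
    · rw [eq_top_iff]
      intro x _
      have h1 : (x : H) ∈ D := by rw [h]; exact x.2
      rw [hD] at h1
      obtain ⟨y, hy, hyx⟩ := h1
      have : y = x := Subtype.ext hyx
      rwa [← this]

end Cfsg.Agent.H813.Af
end

-- part: H69/Af/Clif
section
prune_inst 0x20100000702000000018058293000020000000000000040034000000080f1000a945880143500a0318b084c06803800000100000801800000000820040000000142122c200740c00300000007883180c00000000000000000000000000041000000000000
set_option linter.all false
open scoped Cfsg.Agent.FastGrp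

/-!
# S5731, affine core: Clifford's theorem

`H` irreducible on `V`: either all normal subgroups are homogeneous, or the isotypic components of a normal subgroup
form a system of at least two blocks.
-/

set_option autoImplicit false

namespace Cfsg.Agent.H69.Af

open Cfsg.Agent.H717.FieldOf Cfsg.Agent.H192.Af

universe u v

section

variable {V : Type u} [AddCommGroup V] {H : Type v} [Group H] [DistribMulAction H V] (K : Subgroup H) [K.Normal]

/-- conjugate of a ring element -/
def cjr (h : H) (r : KA V K) : KA V K := ⟨cj V h r, cj_mem K h r.2⟩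

theorem cjr_smul (h : H) (r : KA V K) (v : V) : cjr K h r • (h • v) = h • (r • v) := by
  change h • ((r : AddMonoid.End V) (h⁻¹ • (h • v))) = h • ((r : AddMonoid.End V) v)
  rw [inv_smul_smul]

/-- the translate of a submodule -/
def tr (h : H) (W : (Submodule (KA V K) V :)) : Submodule (KA V K) V where
  carrier := {v | h⁻¹ • v ∈ W}
  zero_mem' := by
    change h⁻¹ • (0 : V) ∈ W
    rw [smul_zero]
    exact zero_mem _
  add_mem' := by
    intro a b ha hb
    change h⁻¹ • (a + b) ∈ W
    rw [smul_add]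
    exact add_mem ha hb
  smul_mem' := by
    intro r v hv
    change h⁻¹ • (r • v) ∈ W
    rw [← cjr_smul]
    exact (W.smul_mem _ hv :)

theorem mem_tr {h : H} {W : (Submodule (KA V K) V :)} {v : V} : v ∈ tr K h W ↔ h⁻¹ • v ∈ W := Iff.rfl

theorem smul_mem_tr {h : H} {W : (Submodule (KA V K) V :)} {v : V} (hv : v ∈ W) : h • v ∈ tr K h W := by
  rw [mem_tr, inv_smul_smul]
  exact hv

theorem tr_one (W : (Submodule (KA V K) V :)) : tr K 1 W = W := by
  ext v
  rw [mem_tr, inv_one, one_smul]

theorem tr_mul (g h : H) (W : (Submodule (KA V K) V :)) : tr K (g * h) W = tr K g (tr K h W) := by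
  ext v
  rw [mem_tr, mem_tr, mem_tr, mul_inv_rev, mul_smul]

/-- translation as an order isomorphism -/
def trI (h : H) : (Submodule (KA V K) V :) ≃o Submodule (KA V K) V where
  toFun := tr K h
  invFun := tr K h⁻¹
  left_inv W := by rw [← tr_mul, inv_mul_cancel, tr_one]
  right_inv W := by rw [← tr_mul, mul_inv_cancel, tr_one]
  map_rel_iff' := by
    intro W W'
    constructor
    · intro hle v hv
      have := hle (smul_mem_tr K (h := h) hv)
      change h⁻¹ • (h • v) ∈ W' at this
      rwa [inv_smul_smul] at this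
    · intro hle v hv
      exact hle hv

theorem trI_apply (h : H) (W : (Submodule (KA V K) V :)) : trI K h W = tr K h W := rfl

theorem tr_simple (h : H) (W : (Submodule (KA V K) V :)) (hW : IsSimpleModule (KA V K) W) :
    IsSimpleModule (KA V K) (tr K h W) := by
  rw [isSimpleModule_iff_isAtom] at hW ⊢
  exact ((trI K h).isAtom_iff W).2 hW

/-- translate of an isomorphism -/
def trE (h : H) {W W' : (Submodule (KA V K) V :)} (e : W →ₗ[KA V K] W') : tr K h W →ₗ[KA V K] tr K h W' where
  toFun x := ⟨h • (e ⟨h⁻¹ • (x : V), x.2⟩ : V), smul_mem_tr K (e _).2⟩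
  map_add' x y := by
    apply Subtype.ext
    have h1 : (⟨h⁻¹ • ((x + y : tr K h W) : V), (x + y).2⟩ : W) =
        ⟨h⁻¹ • (x : V), x.2⟩ + ⟨h⁻¹ • (y : V), y.2⟩ := Subtype.ext (smul_add _ _ _)
    change h • (e ⟨h⁻¹ • ((x + y : tr K h W) : V), (x + y).2⟩ : V) = _
    rw [h1, map_add]
    exact smul_add _ _ _
  map_smul' r x := by
    apply Subtype.ext
    have h1 : (⟨h⁻¹ • ((r • x : tr K h W) : V), (r • x).2⟩ : W) =
        cjr K h⁻¹ r • ⟨h⁻¹ • (x : V), x.2⟩ := Subtype.ext (cjr_smul K h⁻¹ r (x : V)).symm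
    change h • (e ⟨h⁻¹ • ((r • x : tr K h W) : V), (r • x).2⟩ : V) = r • (h • (e ⟨h⁻¹ • (x : V), x.2⟩ : V))
    rw [h1, map_smul]
    obtain ⟨z, hz⟩ : ∃ z : V, z = (e ⟨h⁻¹ • (x : V), x.2⟩ : V) := ⟨_, rfl⟩
    change h • (cjr K h⁻¹ r • (e ⟨h⁻¹ • (x : V), x.2⟩ : V)) = _
    rw [← hz]
    have h2 := cjr_smul K h⁻¹ r (h • z)
    rw [inv_smul_smul] at h2
    rw [h2, smul_inv_smul]

theorem tr_equiv (h : H) {W W' : (Submodule (KA V K) V :)} (e : (Nonempty (W ≃ₗ[KA V K] W') :)) :
    (Nonempty (tr K h W ≃ₗ[KA V K] tr K h W') :) := by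
  obtain ⟨e⟩ := e
  refine ⟨LinearEquiv.ofLinear (trE K h (e.toLinearMap :)) (trE K h e.symm.toLinearMap) ?_ ?_⟩
  · ext x
    change h • (e (⟨h⁻¹ • (h • (e.symm ⟨h⁻¹ • (x : V), x.2⟩ : V)), _⟩ : W) : V) = (x : V)
    have h1 : (⟨h⁻¹ • (h • (e.symm ⟨h⁻¹ • (x : V), x.2⟩ : V)), smul_mem_tr K (e.symm _).2⟩ : W) =
        e.symm ⟨h⁻¹ • (x : V), x.2⟩ := Subtype.ext (inv_smul_smul _ _)
    rw [h1, LinearEquiv.apply_symm_apply, smul_inv_smul]
  · ext x
    change h • (e.symm (⟨h⁻¹ • (h • (e ⟨h⁻¹ • (x : V), x.2⟩ : V)), _⟩ : W') : V) = (x : V)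
    have h1 : (⟨h⁻¹ • (h • (e ⟨h⁻¹ • (x : V), x.2⟩ : V)), smul_mem_tr K (e _).2⟩ : W') =
        e ⟨h⁻¹ • (x : V), x.2⟩ := Subtype.ext (inv_smul_smul _ _)
    rw [h1, LinearEquiv.symm_apply_apply, smul_inv_smul]

theorem tr_isotypic (h : H) (S : (Submodule (KA V K) V :)) :
    tr K h (isotypicComponent (KA V K) V S) = isotypicComponent (KA V K) V (tr K h S) := by
  unfold isotypicComponent
  rw [← trI_apply, OrderIso.map_sSup]
  apply le_antisymm
  · refine iSup₂_le fun m hm => le_sSup ?_
    exact tr_equiv K h hm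
  · refine sSup_le fun m hm => ?_
    have h1 := tr_equiv K h⁻¹ hm
    rw [← tr_mul, inv_mul_cancel, tr_one] at h1
    refine le_trans (le_of_eq ?_) (le_iSup₂ (tr K h⁻¹ m) h1)
    rw [trI_apply, ← tr_mul, mul_inv_cancel, tr_one]

theorem tr_mem_components (h : H) {c : (Submodule (KA V K) V :)} (hc : c ∈ isotypicComponents (KA V K) V) :
    tr K h c ∈ isotypicComponents (KA V K) V := by
  obtain ⟨S, hS, rfl⟩ := hc
  exact ⟨tr K h S, tr_simple K h S hS, tr_isotypic K h S⟩

variable {K}

theorem iSup_tr_eq_top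
    (hirr : ∀ U : AddSubgroup V, (∀ (h : H), ∀ w ∈ U, h • w ∈ U) → U = ⊥ ∨ U = ⊤)
    {W : (Submodule (KA V K) V :)} (hW : W ≠ ⊥) : ⨆ h : H, tr K h W = ⊤ := by
  have hinv : ∀ (g : H), ∀ w ∈ (⨆ h : H, tr K h W).toAddSubgroup, g • w ∈ (⨆ h : H, tr K h W).toAddSubgroup := by
    intro g w hw
    have h1 : tr K g (⨆ h : H, tr K h W) ≤ ⨆ h : H, tr K h W := by
      rw [← trI_apply, OrderIso.map_iSup]
      refine iSup_le fun h => ?_
      rw [trI_apply, ← tr_mul]
      exact le_iSup (fun h => tr K h W) (g * h)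
    exact h1 (smul_mem_tr K hw)
  rcases hirr _ hinv with h0 | h0
  · exfalso
    apply hW
    rw [eq_bot_iff]
    intro w hw
    have h1 : w ∈ ⨆ h : H, tr K h W := by
      have := le_iSup (fun h => tr K h W) 1
      rw [tr_one] at this
      exact this hw
    have h2 : w ∈ (⨆ h : H, tr K h W).toAddSubgroup := h1
    rw [h0] at h2
    exact h2
  · rw [eq_top_iff]
    intro w _
    have h2 : w ∈ (⨆ h : H, tr K h W).toAddSubgroup := by rw [h0]; trivial
    exact h2

theorem semisimple [Finite V] [Nontrivial V]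
    (hirr : ∀ U : AddSubgroup V, (∀ (h : H), ∀ w ∈ U, h • w ∈ U) → U = ⊥ ∨ U = ⊤) :
    (IsSemisimpleModule (KA V K) V :) := by
  have hfin : Finite ((Submodule (KA V K) V :)) := Finite.of_injective (fun W => (W : Set V)) SetLike.coe_injective
  obtain ⟨W, hW⟩ := IsAtomic.exists_atom ((Submodule (KA V K) V :))
  apply IsSemisimpleModule.of_sSup_simples_eq_top
  rw [eq_top_iff, ← iSup_tr_eq_top hirr hW.1]
  refine iSup_le fun h => le_sSup ?_
  exact tr_simple K h W (isSimpleModule_iff_isAtom.2 hW)

theorem iSup_toAddSubgroup {R : Type*} [Ring R] [Module R V] {ι : Sort*} (C : ι → Submodule R V) :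
    (⨆ i, C i).toAddSubgroup = ⨆ i, (C i).toAddSubgroup := by
  apply le_antisymm
  · intro x hx
    have hx' : x ∈ ⨆ i, C i := hx
    refine Submodule.iSup_induction C (motive := fun x => x ∈ ⨆ i, (C i).toAddSubgroup) hx' ?_ (zero_mem _) ?_
    · intro i y hy
      exact (le_iSup (fun i => (C i).toAddSubgroup) i) hy
    · intro y z hy hz
      exact add_mem hy hz
  · refine iSup_le fun i x hx => ?_
    exact (le_iSup C i) hx

/-- the components are permuted transitively -/
theorem exists_tr_eq
    (hirr : ∀ U : AddSubgroup V, (∀ (h : H), ∀ w ∈ U, h • w ∈ U) → U = ⊥ ∨ U = ⊤)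
    {c c' : (Submodule (KA V K) V :)} (hc : c ∈ isotypicComponents (KA V K) V)
    (hc' : c' ∈ isotypicComponents (KA V K) V) : ∃ h : H, tr K h c = c' := by
  by_contra hcon
  push Not at hcon
  have h1 := (sSupIndep_isotypicComponents (KA V K) V hc' :)
  have h2 : (⊤ : (Submodule (KA V K) V :)) ≤ sSup (isotypicComponents (KA V K) V \ {c'}) := by
    rw [← iSup_tr_eq_top hirr (bot_lt_isotypicComponents hc).ne']
    exact iSup_le fun h => le_sSup ⟨tr_mem_components K h hc, hcon h⟩
  exact (bot_lt_isotypicComponents hc').ne' (h1.eq_bot_of_le (le_top.trans h2))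

end

variable {V : Type u} [AddCommGroup V] [Finite V] {H : Type v} [Group H] [Finite H] [DistribMulAction H V]
  [FaithfulSMul H V]

/-- **Clifford** -/
theorem homog_or_blocks {p : ℕ} (hp : p.Prime) (hpV : ∀ w : V, p • w = 0) [Nontrivial V]
    (hirr : ∀ U : AddSubgroup V, (∀ (h : H), ∀ w ∈ U, h • w ∈ U) → U = ⊥ ∨ U = ⊤) :
    (∀ K : Subgroup H, K.Normal → Homog V K) ∨
    ∃ (k : ℕ) (U : Fin k → AddSubgroup V), 2 ≤ k ∧ iSupIndep U ∧ iSup U = ⊤ ∧ (∀ i, U i ≠ ⊥) ∧
      (∀ (h : H) i, ∃ j, ∀ w ∈ U i, h • w ∈ U j) ∧ (∀ i j, ∃ h : H, ∀ w ∈ U i, h • w ∈ U j) := by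
  classical
  by_cases hall : ∀ K : Subgroup H, K.Normal → Homog V K
  · exact Or.inl hall
  right
  push Not at hall
  obtain ⟨K, hK, hnot⟩ := hall
  have hss : (IsSemisimpleModule (KA V K) V :) := semisimple hirr
  have hiso : ¬ (IsIsotypic (KA V K) V :) := fun h => hnot ⟨hss, h⟩
  have hfin : Finite ((Submodule (KA V K) V :)) := Finite.of_injective (fun W => (W : Set V)) SetLike.coe_injective
  have hfc : Finite ((isotypicComponents (KA V K) V :)) := inferInstance
  have hsup := (sSup_isotypicComponents (KA V K) V :)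
  have hind := sSupIndep_isotypicComponents (KA V K) V
  obtain ⟨k, ⟨e⟩⟩ := Finite.exists_equiv_fin (isotypicComponents (KA V K) V)
  have hk : 2 ≤ k := by
    by_contra hlt
    apply hiso
    have hne : (isotypicComponents (KA V K) V).Nonempty := by
      by_contra he
      rw [Set.not_nonempty_iff_eq_empty] at he
      rw [he, sSup_empty] at hsup
      exact bot_ne_top hsup
    obtain ⟨c, hc⟩ := hne
    have h1 : isotypicComponents (KA V K) V = {c} := by
      ext d
      constructor
      · intro hd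
        have hk1 : k ≤ 1 := by omega
        have : Subsingleton (Fin k) := Fin.subsingleton_iff_le_one.2 hk1
        have h2 : (⟨d, hd⟩ : (isotypicComponents (KA V K) V :)) = ⟨c, hc⟩ := e.injective (Subsingleton.elim _ _)
        exact congrArg Subtype.val h2
      · rintro rfl
        exact hc
    rw [h1, sSup_singleton] at hsup
    have h3 := (IsIsotypic.isotypicComponents hc :)
    rw [hsup] at h3
    exact ((Submodule.topEquiv (R := KA V K) (M := V)).isIsotypic_iff.1 h3 :)
  let C : Fin k → Submodule (KA V K) V := fun i => (e.symm i).1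
  have hCmem : ∀ i, C i ∈ isotypicComponents (KA V K) V := fun i => (e.symm i).2
  have hCsurj : ∀ c ∈ isotypicComponents (KA V K) V, ∃ i, C i = c := fun c hc =>
    ⟨e ⟨c, hc⟩, by change (e.symm (e ⟨c, hc⟩)).1 = c; rw [e.symm_apply_apply]⟩
  have hCinj : Function.Injective C := fun i j hij => e.symm.injective (Subtype.ext hij)
  have hCind : iSupIndep C := by
    intro i
    have h1 := hind (hCmem i)
    refine h1.mono_right (iSup₂_le fun j hj => le_sSup ?_)
    exact ⟨hCmem j, fun h => hj (hCinj h)⟩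
  have hCtop : iSup C = ⊤ := by
    rw [eq_top_iff, ← hsup]
    refine sSup_le fun c hc => ?_
    obtain ⟨i, rfl⟩ := hCsurj c hc
    exact le_iSup C i
  refine ⟨k, fun i => (C i).toAddSubgroup, hk, ?_, ?_, ?_, ?_, ?_⟩
  · intro i
    have h1 := hCind i
    simp only [← iSup_toAddSubgroup]
    rw [AddSubgroup.disjoint_def]
    intro x hx hx'
    exact (Submodule.disjoint_def.1 h1) x hx hx'
  · change ⨆ i, (C i).toAddSubgroup = ⊤
    rw [← iSup_toAddSubgroup]
    have h1 : ⨆ i, C i = ⊤ := hCtop
    rw [h1]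
    rfl
  · intro i h0
    apply (bot_lt_isotypicComponents (hCmem i)).ne'
    rw [eq_bot_iff]
    intro w hw
    have h1 : w ∈ (C i).toAddSubgroup := hw
    have h2 : (C i).toAddSubgroup = ⊥ := h0
    rw [h2] at h1
    exact h1
  · intro h i
    obtain ⟨j, hj⟩ := hCsurj _ (tr_mem_components K h (hCmem i))
    refine ⟨j, fun w hw => ?_⟩
    change h • w ∈ C j
    rw [hj]
    exact smul_mem_tr K hw
  · intro i j
    obtain ⟨h, hh⟩ := exists_tr_eq hirr (hCmem i) (hCmem j)
    refine ⟨h, fun w hw => ?_⟩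
    change h • w ∈ C j
    rw [← hh]
    exact smul_mem_tr K hw

end Cfsg.Agent.H69.Af

private theorem dce_78c981a781b4 : _root_.True := by
  try have : _root_.True := by simp only [_root_.Cfsg.Agent.H69.Af.tr.congr_simp]
  exact _root_.True.intro
end

-- part: H112/Af/Field
section
prune_inst 0x20100000702200000000000080000020000000000000000000000040080800000004800002100000000000804000002002dc0000c008000000000800010000001000000000100c00100080000000000000000000000000000000000000000000000000000
set_option linter.all false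
open scoped Cfsg.Agent.FastGrp

/-!
# S5731, AF3: abelian and class-two normal subgroups of homogeneous linear groups (helper112)

* `smul_eq_zero_of` : an element of `KA V M` which kills a simple submodule is zero;
* `index_centralizer_le` : `|H : C_H(A)| ≤ log₂ |V|` for an abelian normal subgroup `A`;
* `cyclic_of_homog` : `A` is cyclic.
-/

set_option autoImplicit false
set_option linter.unusedSectionVars false
set_option linter.style.haveILetI false

namespace Cfsg.Agent.H112.Af

open Cfsg.Agent.H717.FieldOf Cfsg.Agent.H192.Af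

universe u v

theorem two_pow_card_aut (F : Type*) [Field F] [Finite F] : 2 ^ Nat.card (F ≃+* F) ≤ Nat.card F := by
  have := Fintype.ofFinite F
  obtain ⟨p, hp⟩ := CharP.exists F
  have hpr : Fact p.Prime := ⟨CharP.char_is_prime F p⟩
  let _ : Algebra (ZMod p) F := ZMod.algebra F p
  let e : (F ≃ₐ[ZMod p] F) ≃ (F ≃+* F) :=
    { toFun := fun f => f.toRingEquiv
      invFun := fun f => AlgEquiv.ofRingEquiv (f := f) (fun x => by
        obtain ⟨k, rfl⟩ := ZMod.natCast_zmod_surjective x
        simp)
      left_inv := fun f => by ext x; rfl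
      right_inv := fun f => by ext x; rfl }
  have h1 : Nat.card (F ≃ₐ[ZMod p] F) = Module.finrank (ZMod p) F := IsGalois.card_aut_eq_finrank (ZMod p) F
  rw [← Nat.card_congr e, h1]
  have h2 : Nat.card F = p ^ Module.finrank (ZMod p) F := by
    rw [Module.natCard_eq_pow_finrank (K := ZMod p), Nat.card_zmod]
  rw [h2]
  exact Nat.pow_le_pow_left hpr.out.two_le _

section

variable {V : Type u} [AddCommGroup V] {H : Type v} [Group H] [DistribMulAction H V]

/-- an element of the ring which kills a simple submodule is zero -/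
theorem eq_zero_of_simple {M : Subgroup H} (hM : Homog V M) {W : Submodule (KA V M) V}
    (hW : IsSimpleModule (KA V M) W) {r : KA V M} (hr : ∀ w ∈ W, r • w = 0) : r = 0 := by
  obtain ⟨hss, hiso⟩ := hM
  have h1 : ∀ S : Submodule (KA V M) V, IsSimpleModule (KA V M) S → ∀ w ∈ S, r • w = 0 := by
    intro S hS w hw
    obtain ⟨e⟩ := hiso W S
    have h2 := hr (e ⟨w, hw⟩) (e ⟨w, hw⟩).2
    have h3 : r • e ⟨w, hw⟩ = 0 := Subtype.ext h2
    rw [← map_smul, LinearEquiv.map_eq_zero_iff] at h3
    exact congrArg Subtype.val h3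
  have h2 : ∀ w : V, r • w = 0 := by
    intro w
    have h3 : w ∈ sSup {m : Submodule (KA V M) V | IsSimpleModule (KA V M) m} := by
      rw [IsSemisimpleModule.sSup_simples_eq_top]
      exact Submodule.mem_top
    rw [sSup_eq_iSup'] at h3
    refine Submodule.iSup_induction _ (motive := fun w => r • w = 0) h3 ?_ (smul_zero r) ?_
    · rintro ⟨S, hS⟩ w hw
      exact h1 S hS w hw
    · intro a b ha hb
      rw [smul_add, ha, hb, add_zero]
  exact Subtype.ext (AddMonoidHom.ext h2)

variable [Finite V]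

/-- for an abelian subgroup: an element of the ring which kills a nonzero vector is zero -/
theorem eq_zero_of_apply {A : Subgroup H} (hA : Homog V A) (hab : IsMulCommutative A) {r : KA V A} {w : V}
    (hw : w ≠ 0) (hr : r • w = 0) : r = 0 := by
  have hab' : ∀ a ∈ A, ∀ b ∈ A, a * b = b * a := fun a ha b hb =>
    congrArg Subtype.val (hab.is_comm.comm (⟨a, ha⟩ : A) ⟨b, hb⟩)
  have hss := hA.1
  -- the kernel of `r` is a submodule
  let K : (Submodule (KA V A) V :) :=
    { carrier := {x | r • x = 0}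
      add_mem' := fun {a b} ha hb => by
        have ha' : r • a = 0 := ha
        have hb' : r • b = 0 := hb
        change r • (a + b) = 0
        rw [smul_add, ha', hb', add_zero]
      zero_mem' := (smul_zero r : _)
      smul_mem' := fun c x hx => by
        have hx' : r • x = 0 := hx
        change r • (c • x) = 0
        have h1 : r * c = c * r := Subtype.ext (KA_comm A hab' r.2 c.2)
        rw [← mul_smul, h1, mul_smul, hx', smul_zero] }
  have hKn : Nontrivial K := ⟨⟨⟨w, hr⟩, 0, fun h => hw (congrArg Subtype.val h)⟩⟩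
  obtain ⟨S, hS⟩ := IsSemisimpleModule.exists_simple_submodule (KA V A) K
  have hS' : IsSimpleModule (KA V A) ((S.map (K.subtype :) :)) := by
    have e : ((S.map (K.subtype :) :)) ≃ₗ[KA V A] S := (Submodule.equivMapOfInjective K.subtype K.subtype_injective S).symm
    exact IsSimpleModule.congr (N := S) (e :)
  refine eq_zero_of_simple hA hS' ?_
  rintro _ ⟨x, -, rfl⟩
  exact x.2

/-- the ring generated by an abelian normal subgroup is a domain -/
theorem mul_eq_zero' {A : Subgroup H} (hA : Homog V A) (hab : IsMulCommutative A) {r s : KA V A}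
    (h : r * s = 0) : r = 0 ∨ s = 0 := by
  by_contra hne
  rw [not_or] at hne
  have hb : ∃ y : V, s • y ≠ 0 := by
    by_contra hcon
    push Not at hcon
    exact hne.2 (Subtype.ext (AddMonoidHom.ext hcon))
  obtain ⟨y, hy⟩ := hb
  refine hne.1 (eq_zero_of_apply hA hab hy ?_)
  rw [← mul_smul, h, zero_smul]

variable [Finite H] [FaithfulSMul H V]

/-- **`H / C_H(A)` acts faithfully on the field generated by `A`.** -/
theorem index_centralizer_le {p : ℕ} (_hp : p.Prime) (_hpV : ∀ w : V, p • w = 0) [Nontrivial V]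
    (A : Subgroup H) [A.Normal] (hA : Homog V A) (hab : IsMulCommutative A) :
    (Subgroup.centralizer (A : Set H)).index ≤ Nat.log 2 (Nat.card V) := by
  have hfin : Finite (AddMonoid.End V) := finite_end
  have hab' : ∀ a ∈ A, ∀ b ∈ A, a * b = b * a := fun a ha b hb =>
    congrArg Subtype.val (hab.is_comm.comm (⟨a, ha⟩ : A) ⟨b, hb⟩)
  obtain ⟨x₀, hx₀⟩ := exists_ne (0 : V)
  let R : Subring (AddMonoid.End V) := KA V A
  letI : CommRing R := { (inferInstance : Ring R) with
    mul_comm := fun a b => Subtype.ext (KA_comm A hab' a.2 b.2) }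
  haveI : Nontrivial R := ⟨⟨0, 1, by
    intro h
    have h2 : (0 : AddMonoid.End V) = 1 := congrArg Subtype.val h
    have h3 := DFunLike.congr_fun h2 x₀
    exact hx₀ h3.symm⟩⟩
  haveI : NoZeroDivisors R := ⟨fun {a b} h => mul_eq_zero' hA hab h⟩
  haveI : IsDomain R := NoZeroDivisors.to_isDomain R
  letI : Field R := (Finite.isField_of_domain R).toField
  let cjR : H → (R ≃+* R) := fun d =>
    { toFun := fun r => ⟨cj V d r, cj_mem A d r.2⟩
      invFun := fun r => ⟨cj V d⁻¹ r, cj_mem A d⁻¹ r.2⟩
      left_inv := fun r => Subtype.ext (by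
        change cj V d⁻¹ (cj V d (r : AddMonoid.End V)) = r
        rw [← cj_mul, inv_mul_cancel, cj_one])
      right_inv := fun r => Subtype.ext (by
        change cj V d (cj V d⁻¹ (r : AddMonoid.End V)) = r
        rw [← cj_mul, mul_inv_cancel, cj_one])
      map_mul' := fun r s => Subtype.ext (map_mul (cj V d) (r : AddMonoid.End V) (s : AddMonoid.End V))
      map_add' := fun r s => Subtype.ext (map_add (cj V d) (r : AddMonoid.End V) (s : AddMonoid.End V)) }
  let σ : H →* (R ≃+* R) :=
    { toFun := cjR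
      map_one' := RingEquiv.ext fun r => Subtype.ext (cj_one _)
      map_mul' := fun c d => RingEquiv.ext fun r => Subtype.ext (cj_mul c d _) }
  have hker : σ.ker ≤ Subgroup.centralizer (A : Set H) := by
    intro d hd
    rw [Subgroup.mem_centralizer_iff]
    intro a ha
    have h5 : cj V d (dl V a) = dl V a := by
      have := congrArg (fun f : R ≃+* R => ((f ⟨dl V a, dl_mem A ha⟩ : R) : AddMonoid.End V)) (MonoidHom.mem_ker.1 hd)
      exact this
    rw [cj_apply, ← map_mul, ← map_mul] at h5
    have h6 : d * a * d⁻¹ = a := by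
      apply FaithfulSMul.eq_of_smul_eq_smul (α := V)
      intro e
      exact DFunLike.congr_fun h5 e
    calc a * d = (d * a * d⁻¹) * d := by rw [h6]
      _ = d * a := by group
  have h1 : (Subgroup.centralizer (A : Set H)).index ≤ σ.ker.index :=
    Subgroup.index_antitone hker
  have hfR : Finite (R ≃+* R) := Finite.of_injective (fun f : R ≃+* R => (f : R → R)) DFunLike.coe_injective
  have h2 : σ.ker.index ≤ Nat.card (R ≃+* R) := by
    rw [Subgroup.index_ker]
    exact Nat.card_le_card_of_injective _ (Subtype.coe_injective)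
  have h3 : Nat.card R ≤ Nat.card V := by
    refine Nat.card_le_card_of_injective (fun r : R => r • x₀) ?_
    intro a b hab2
    have hab3 : a • x₀ = b • x₀ := hab2
    rw [← sub_eq_zero]
    refine eq_zero_of_apply hA hab hx₀ ?_
    change (a - b) • x₀ = 0
    rw [sub_smul, hab3, sub_self]
  have h4 := two_pow_card_aut R
  refine (h1.trans h2).trans (Nat.le_log_of_pow_le (by norm_num) (h4.trans h3))

/-- an abelian subgroup with `V` homogeneous is cyclic -/
theorem cyclic_of_homog [Nontrivial V] {A : Subgroup H} (hA : Homog V A) (hab : IsMulCommutative A) :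
    IsCyclic A := by
  have hfin : Finite (AddMonoid.End V) := finite_end
  have hab' : ∀ a ∈ A, ∀ b ∈ A, a * b = b * a := fun a ha b hb =>
    congrArg Subtype.val (hab.is_comm.comm (⟨a, ha⟩ : A) ⟨b, hb⟩)
  obtain ⟨x₀, hx₀⟩ := exists_ne (0 : V)
  let R : Subring (AddMonoid.End V) := KA V A
  letI : CommRing R := { (inferInstance : Ring R) with
    mul_comm := fun a b => Subtype.ext (KA_comm A hab' a.2 b.2) }
  haveI : Nontrivial R := ⟨⟨0, 1, by
    intro h
    have h2 : (0 : AddMonoid.End V) = 1 := congrArg Subtype.val h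
    have h3 := DFunLike.congr_fun h2 x₀
    exact hx₀ h3.symm⟩⟩
  haveI : NoZeroDivisors R := ⟨fun {a b} h => mul_eq_zero' hA hab h⟩
  haveI : IsDomain R := NoZeroDivisors.to_isDomain R
  let φ : A →* R :=
    { toFun := fun a => ⟨dl V (a : H), dl_mem A a.2⟩
      map_one' := Subtype.ext (map_one (dl V))
      map_mul' := fun a b => Subtype.ext (map_mul (dl V) (a : H) (b : H)) }
  refine isCyclic_of_injective_ringHom φ ?_
  intro a b hab2
  apply Subtype.ext
  apply FaithfulSMul.eq_of_smul_eq_smul (α := V)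
  intro e
  exact DFunLike.congr_fun (congrArg Subtype.val hab2) e

end

end Cfsg.Agent.H112.Af
end
end
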